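import Groth.Agent.H17.EdgeIso.Main
import Groth.Agent.H28Int.Vanishing
import Groth.Agent.H16Derived.ProjFormula.ClosedImm
import Groth.Agent.H10Coh.AffineAmple

/-!
# Ext sheaves of a closed subscheme below its codimension
-/

set_option autoImplicit false
set_option linter.style.haveILetI false
set_option synthInstance.maxHeartbeats 800000
set_option maxHeartbeats 1600000
set_option backward.isDefEq.respectTransparency false

universe u

open CategoryTheory CategoryTheory.Limits CategoryTheory.Abelian AlgebraicGeometry Opposite TopologicalSpace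
open scoped TensorProduct
open Groth.Agent.H10Coh

namespace Groth.Agent.H17.EdgeIso

variable {k : Type u} [Field k] {N : ℕ} {X : Scheme.{u}}

theorem subsingleton_stalk_tensor {Y : Scheme.{u}} (M L : Y.Modules) (z : Y) (h : Subsingleton (M.presheaf.stalk z)) :
    Subsingleton ((CohB1.tensorMod M L).presheaf.stalk z) := by
  let e := H16Derived.KFlat.Stalk.stalkEquiv M L z
  have h' : Subsingleton (M.presheaf.stalk z ⊗[Y.presheaf.stalk z] L.presheaf.stalk z) := by
    refine subsingleton_of_forall_eq 0 fun w => ?_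
    induction w using TensorProduct.induction_on with
    | zero => rfl
    | tmul a b => rw [Subsingleton.elim a 0, TensorProduct.zero_tmul]
    | add a b ha hb => rw [ha, hb, add_zero]
  exact (e.symm.toEquiv.subsingleton : Subsingleton ((H16Derived.KFlat.Stalk.tensor M L).presheaf.stalk z))

theorem ext_stalk_vanish (ι : X ⟶ CohB1.ProjSpace N k) [IsClosedImmersion ι] {r i : ℕ}
    (hr : topologicalKrullDim ↥X + (r : WithBot ℕ∞) ≤ (N : WithBot ℕ∞)) (hi : i < r) (y : CohB1.ProjSpace N k) :
    Subsingleton (Abelian.Ext (ModuleCat.of ((CohB1.ProjSpace N k).presheaf.stalk y)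
        (((Scheme.Modules.pushforward ι).obj (Coh.structureModule X)).presheaf.stalk y))
      (ModuleCat.of ((CohB1.ProjSpace N k).presheaf.stalk y) ((CohB1.ProjSpace N k).presheaf.stalk y)) i) := by
  haveI : IsNoetherian (CohB1.ProjSpace N k) := ProjQ.isNoetherian_proj (Pn.Gr N k)
  haveI : (CohB1.ProjSpace N k).IsSeparated := Scheme.IsSeparated.mk (by
    rw [← terminal.comp_from (CohB1.ProjSpace.toSpec N k)]; infer_instance)
  haveI : IsLocallyNoetherian X := LocallyOfFiniteType.isLocallyNoetherian ι
  rcases isEmpty_or_nonempty X with hX | hX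
  · haveI : Subsingleton (((Scheme.Modules.pushforward ι).obj (Coh.structureModule X)).presheaf.stalk y) :=
      H16Derived.ProjFormula.subsingleton_stalk_push ι _ y (fun ⟨x, _⟩ => hX.elim x)
    have hz : IsZero (ModuleCat.of ((CohB1.ProjSpace N k).presheaf.stalk y)
        (((Scheme.Modules.pushforward ι).obj (Coh.structureModule X)).presheaf.stalk y)) :=
      ModuleCat.isZero_of_subsingleton _
    exact subsingleton_of_forall_eq 0 fun x => by
      rw [← Ext.mk₀_id_comp x, hz.eq_of_src (𝟙 _) 0, Ext.mk₀_zero, Ext.zero_comp]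
  have hF : Coh.IsCoh ((Scheme.Modules.pushforward ι).obj (Coh.structureModule X)) :=
    isCoh_push_of_isFinite ι _ (isCoh_structureModule' X)
  have hrN : r ≤ N := by
    obtain ⟨x⟩ := hX
    haveI : Nonempty (TopologicalSpace.IrreducibleCloseds ↥X) :=
      ⟨⟨closure {x}, isIrreducible_singleton.closure, isClosed_closure⟩⟩
    have : (0 : WithBot ℕ∞) ≤ topologicalKrullDim ↥X := Order.krullDim_nonneg
    exact_mod_cast (le_add_of_nonneg_left this).trans hr
  refine (van_iff_ext_stalks _ hF (i := N - i) (j := i) (by omega)).1 ⟨0, fun m _ => ?_⟩ y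
  have hq : (CohB1.tensorMod ((Scheme.Modules.pushforward ι).obj (Coh.structureModule X))
      (Twist.twistProjSpace N k (-m))).IsQuasicoherent :=
    (H11Ample.isCoh_tensor hF (H22Alg.RegSheaf.isInvertible_twistProjSpace N k (-m))).1
  refine @Equiv.subsingleton _ _ (HHEquiv _ (N - i)).toEquiv
    (H28Int.subsingleton_HnM_of_support (X := CohB1.ProjSpace N k) ⟨Set.range ι.base, ι.isClosedEmbedding.isClosed_range⟩
      (N - r) ?_ _ hq (fun z hz => ?_) (N - i) (by omega))
  · change topologicalKrullDim ↥(Set.range ι.base) ≤ _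
    rw [← ι.isClosedEmbedding.isEmbedding.toHomeomorph.isHomeomorph.topologicalKrullDim_eq]
    obtain ⟨c, hc⟩ : ∃ c : ℕ, (N - r : ℕ) = c := ⟨_, rfl⟩
    revert hr
    generalize topologicalKrullDim ↥X = D
    intro hr
    induction D with
    | bot => exact bot_le
    | coe D =>
      induction D with
      | top =>
        rw [← WithBot.coe_natCast r, ← WithBot.coe_natCast N, ← WithBot.coe_add, top_add, WithBot.coe_le_coe] at hr
        exact absurd hr (by simp)
      | coe D =>
        rw [← WithBot.coe_natCast r, ← WithBot.coe_natCast N, ← WithBot.coe_add, WithBot.coe_le_coe] at hr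
        have h2 : D + r ≤ N := by exact_mod_cast hr
        exact WithBot.coe_le_coe.2 (show ((D : ℕ) : ℕ∞) ≤ ((N - r : ℕ) : ℕ∞) from
          Nat.cast_le.2 (Nat.le_sub_of_add_le h2))
  · by_contra hz'
    haveI := H16Derived.ProjFormula.subsingleton_stalk_push ι (Coh.structureModule X) z hz'
    refine hz ?_
    exact subsingleton_stalk_tensor _ _ z this

theorem subsingleton_ext_finite_free {R : Type u} [CommRing R] {M : ModuleCat.{u} R} (P : Type u) [AddCommGroup P]
    [Module R P] {p i : ℕ} (b : Module.Basis (Fin p) R P) (h : Subsingleton (Abelian.Ext M (ModuleCat.of R R) i)) :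
    Subsingleton (Abelian.Ext M (ModuleCat.of R P) i) := by
  refine subsingleton_of_forall_eq 0 fun x => ?_
  let incl : Fin p → (ModuleCat.of R R ⟶ ModuleCat.of R P) := fun j => ModuleCat.ofHom (LinearMap.toSpanSingleton R P (b j))
  let proj : Fin p → (ModuleCat.of R P ⟶ ModuleCat.of R R) := fun j => ModuleCat.ofHom (b.coord j)
  have hid : ∑ j, proj j ≫ incl j = 𝟙 (ModuleCat.of R P) := by
    refine ModuleCat.hom_ext (LinearMap.ext fun v => ?_)
    simp only [ModuleCat.hom_sum, LinearMap.sum_apply, ModuleCat.hom_comp, LinearMap.comp_apply]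
    exact b.sum_repr v
  let F : (ModuleCat.of R P ⟶ ModuleCat.of R P) →+ Abelian.Ext M (ModuleCat.of R P) i :=
    AddMonoidHom.mk' (fun f => x.comp (Ext.mk₀ f) (add_zero i)) fun f g => by simp [Ext.mk₀_add]
  have hx : F (𝟙 _) = x := by simp [F]
  rw [← hx, ← hid, map_sum]
  refine Finset.sum_eq_zero fun j _ => ?_
  change x.comp (Ext.mk₀ (proj j ≫ incl j)) (add_zero i) = 0
  rw [← Ext.mk₀_comp_mk₀ (proj j) (incl j),
    ← Ext.comp_assoc x (Ext.mk₀ (proj j)) (Ext.mk₀ (incl j)) (add_zero i) (add_zero 0) (by omega),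
    h.elim (x.comp (Ext.mk₀ (proj j)) (add_zero i)) 0, Ext.zero_comp]

/-- The Ext sheaves into a finite locally free module vanish below the codimension. -/
theorem isZero_extSh_below (ι : X ⟶ CohB1.ProjSpace N k) [IsClosedImmersion ι] {r i : ℕ}
    (hr : topologicalKrullDim ↥X + (r : WithBot ℕ∞) ≤ (N : WithBot ℕ∞)) (hi : i < r)
    {E : (CohB1.ProjSpace N k).Modules} (hE : FlatMod.IsFinLocFree E)
    [ModSite.HasSheafHom (O := (CohB1.ProjSpace N k).sheaf) ((Scheme.Modules.pushforward ι).obj (Coh.structureModule X))]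
    [HasInjectiveResolutions (ModSite.Mod (CohB1.ProjSpace N k).sheaf)] :
    IsZero ((ModSite.extSh (O := (CohB1.ProjSpace N k).sheaf)
      ((Scheme.Modules.pushforward ι).obj (Coh.structureModule X)) i).obj E) := by
  haveI : IsNoetherian (CohB1.ProjSpace N k) := ProjQ.isNoetherian_proj (Pn.Gr N k)
  haveI : IsLocallyNoetherian X := LocallyOfFiniteType.isLocallyNoetherian ι
  haveI : HasInjectiveResolutions (CohB1.ProjSpace N k).Modules :=
    ‹HasInjectiveResolutions (ModSite.Mod (CohB1.ProjSpace N k).sheaf)›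
  have hF : Coh.IsCoh ((Scheme.Modules.pushforward ι).obj (Coh.structureModule X)) :=
    isCoh_push_of_isFinite ι _ (isCoh_structureModule' X)
  rw [(H10Inj.SheafExt.extShIso _ i E).isZero_iff, isZero_iff_stalks]
  intro y
  obtain ⟨e⟩ := nonempty_stalk_ext _ hF y i E
  haveI := H29Ref.finite_stalk E ((H10Coh.Tw.isCoh_of_vb hE).2) y
  haveI := H8Props.FinLocFree.free_stalk E hE y
  let b := Module.finBasis ((CohB1.ProjSpace N k).presheaf.stalk y) (E.presheaf.stalk y)
  refine @Equiv.subsingleton _ _ e.toEquiv ?_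
  exact subsingleton_ext_finite_free _ b (ext_stalk_vanish ι hr hi y)

end Groth.Agent.H17.EdgeIso
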