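import Groth.Agent.H17.EdgeIso.Abstract
import Groth.Agent.H17.PnExt.LocFreeExt
import Groth.Agent.H02CA.ModUnitAcyclic
import Groth.Agent.H02CA.ModNullHom
import Groth.Agent.H15Site.ModTensor
import Groth.Agent.H11Tilde.TwistPow
import Groth.Agent.H10Coh.Pn.Results
import Groth.Agent.S6150
import Groth.Prelude.Def_ModSite2

/-!
# `Ext^j(F, N)` as global sections of the Ext sheaf
-/

set_option autoImplicit false
set_option linter.style.haveILetI false
set_option synthInstance.maxHeartbeats 800000
set_option maxHeartbeats 1600000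
set_option backward.isDefEq.respectTransparency false

universe u

open CategoryTheory CategoryTheory.Limits CategoryTheory.Abelian AlgebraicGeometry Opposite TopologicalSpace

namespace Groth.Agent.H17.EdgeIso

variable {X : Scheme.{u}} {k : Type u} [CommRing k] [X.Over (Spec (CommRingCat.of k))]

variable (k) in
/-- `Hom(O, M) = H^0(X, M)` linearly. -/
theorem nonempty_hom_unit_linearEquiv (M : X.Modules) :
    Nonempty ((Coh.structureModule X ⟶ M) ≃ₗ[k] Coh.HH X M 0) := by
  let one : Γ(Coh.structureModule X, ⊤) := (1 : Γ(X, ⊤))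
  let f : (Coh.structureModule X ⟶ M) →+ Coh.HH X M 0 :=
    AddMonoidHom.mk' (fun φ => (H10Coh.HH0Equiv M).symm (φ.app ⊤ one)) fun φ ψ => by
      rw [← map_add]; rfl
  have hone : ∀ (φ : Coh.structureModule X ⟶ M) (V : X.Opens) (r : Γ(Coh.structureModule X, V)),
      φ.app V r = (show Γ(X, V) from r) • M.presheaf.map (homOfLE (le_top : V ≤ ⊤)).op (φ.app ⊤ one) := by
    intro φ V r
    have h := ConcreteCategory.congr_hom (φ.mapPresheaf.naturality (homOfLE (le_top : V ≤ ⊤)).op) one
    have h1 : (Coh.structureModule X).presheaf.map (homOfLE (le_top : V ≤ ⊤)).op one =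
        (show Γ(Coh.structureModule X, V) from (1 : Γ(X, V))) :=
      map_one (X.presheaf.map (homOfLE (le_top : V ≤ ⊤)).op).hom
    refine (congrArg (φ.app V) (mul_one (show Γ(X, V) from r)).symm).trans ?_
    refine (Scheme.Modules.Hom.app_smul φ (show Γ(X, V) from r) _).trans ?_
    exact congrArg _ ((congrArg (φ.app V) h1.symm).trans h)
  refine ⟨LinearEquiv.ofBijective { f with map_smul' := fun a φ => ?_ } ⟨fun φ ψ h => ?_, fun x => ?_⟩⟩
  · change (H10Coh.HH0Equiv M).symm ((a • φ).app ⊤ one) = a • (H10Coh.HH0Equiv M).symm (φ.app ⊤ one)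
    apply (H10Coh.HH0Equiv M).injective
    rw [AddEquiv.apply_symm_apply, KLin.smul_app_apply]
    refine Eq.trans ?_ (H10Coh.HH0Equiv_smul M (Coh.toGlobal (X ↘ Spec (CommRingCat.of k)) a) _).symm
    rw [AddEquiv.apply_symm_apply]
    exact congrArg (fun c : Γ(X, ⊤) => c • φ.app ⊤ one) (ConcreteCategory.congr_hom (X.presheaf.map_id (op ⊤)) _)
  · refine Scheme.Modules.hom_ext _ _ fun V => ConcreteCategory.hom_ext _ _ fun r => ?_
    exact (hone φ V r).trans ((congrArg (fun t => (show Γ(X, V) from r) •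
      M.presheaf.map (homOfLE (le_top : V ≤ ⊤)).op t) ((H10Coh.HH0Equiv M).symm.injective h)).trans (hone ψ V r).symm)
  · refine ⟨H11Tilde.homOfGlobal M (H10Coh.HH0Equiv M x), ?_⟩
    change (H10Coh.HH0Equiv M).symm _ = x
    rw [H11Tilde.homOfGlobal_app, AddEquiv.symm_apply_eq]
    refine (one_smul Γ(X, ⊤) _).trans ?_
    exact ConcreteCategory.congr_hom (M.presheaf.map_id (op ⊤)) _

theorem ac_iff [HasExt.{u} X.Modules] (M : X.Modules) :
    Ac (Coh.structureModule X) M ↔ ∀ p : ℕ, Subsingleton (Coh.HH X M (p + 1)) := by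
  haveI : IsGrothendieckAbelian.{u} X.Modules := H10Coh.isGrothendieckAbelian_sheafOfModules _
  haveI : EnoughInjectives X.Modules := inferInstance
  haveI : EnoughInjectives (SheafOfModules.{u} X.ringCatSheaf) := ‹EnoughInjectives X.Modules›
  haveI : HasExt.{u} (SheafOfModules.{u} X.ringCatSheaf) := ‹HasExt.{u} X.Modules›
  exact forall_congr' fun p =>
    (H15Site.ModExtH.nonempty_ext_unit_addEquiv X.ringCatSheaf M (p + 1)).some.toEquiv.subsingleton_congr

section adjunction

variable (F : X.Modules) [ModSite.HasSheafHom (O := X.sheaf) F]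

/-- The sheaf Hom. -/
noncomputable abbrev sH : X.Modules ⥤ X.Modules := ModSite.sheafHom (O := X.sheaf) F

/-- `- ⊗ F` is left adjoint to the sheaf Hom. -/
noncomputable abbrev sHAdj : (DCoh.tensorBi (X := X)).flip.obj F ⊣ sH F := ModSite.sheafHomAdj (O := X.sheaf) F

theorem tensorFlip_map_smulMod (a : k) (N : X.Modules) :
    ((DCoh.tensorBi (X := X)).flip.obj F).map (Formal.smulMod k N a) =
      Formal.smulMod k (((DCoh.tensorBi (X := X)).flip.obj F).obj N) a := by
  let e : (DCoh.tensorBi (X := X)).obj F ≅ (DCoh.tensorBi (X := X)).flip.obj F :=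
    H15Site.ModTensor.tLIso (O := X.sheaf) F
  rw [← cancel_epi (e.hom.app N), ← e.hom.naturality, PnExt.tensor_map_smulMod]
  exact (KLin.comp_smulModΓ (e.hom.app N) _).symm

theorem sH_map_smulMod (a : k) (M : X.Modules) :
    (sH F).map (Formal.smulMod k M a) = Formal.smulMod k ((sH F).obj M) a := by
  apply ((sHAdj F).homEquiv _ _).symm.injective
  rw [← Category.id_comp ((sH F).map (Formal.smulMod k M a)), (sHAdj F).homEquiv_naturality_right_symm,
    ← Category.comp_id (Formal.smulMod k ((sH F).obj M) a), (sHAdj F).homEquiv_naturality_left_symm,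
    tensorFlip_map_smulMod]
  exact KLin.comp_smulModΓ _ _

variable (k) in
/-- `Ext^j(F, N) = H^0(X, Ext^j(F, N))` when the Ext sheaves up to `j` have no higher cohomology. -/
theorem nonempty_ext_linearEquiv_sections [HasExt.{u} X.Modules] [HasInjectiveResolutions (ModSite.Mod X.sheaf)]
    (N : X.Modules) (j : ℕ)
    (h : ∀ q ≤ j, ∀ p : ℕ, Subsingleton (Coh.HH X ((ModSite.extSh (O := X.sheaf) F q).obj N) (p + 1))) :
    Nonempty (Ext.{u} F N j ≃ₗ[k] Coh.HH X ((ModSite.extSh (O := X.sheaf) F j).obj N) 0) := by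
  haveI : IsGrothendieckAbelian.{u} X.Modules := H10Coh.isGrothendieckAbelian_sheafOfModules _
  haveI : EnoughInjectives X.Modules := inferInstance
  haveI : HasExt.{u} (ModSite.Mod X.sheaf) := ‹HasExt.{u} X.Modules›
  haveI : (sH F).IsRightAdjoint := (sHAdj F).isRightAdjoint
  haveI : PreservesFiniteLimits (sH F) := by
    haveI := (sHAdj F).rightAdjoint_preservesLimits
    infer_instance
  haveI : (sH F).Additive := Functor.additive_of_preserves_binary_products _
  let r : ((DCoh.tensorBi (X := X)).flip.obj F).obj (Coh.structureModule X) ≅ F :=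
    (H15Site.ModOver.tensorUnitIso X.sheaf).app F
  let η₀ : ∀ M : X.Modules, (F ⟶ M) → (Coh.structureModule X ⟶ (sH F).obj M) :=
    fun M φ => (sHAdj F).homEquiv _ _ (r.hom ≫ φ)
  have hη : ∀ {M M' : X.Modules} (f : F ⟶ M) (g : M ⟶ M'), η₀ M' (f ≫ g) = η₀ M f ≫ (sH F).map g := by
    intro M M' f g
    dsimp only [η₀]
    rw [← Category.assoc, Adjunction.homEquiv_naturality_right]
  have hb : ∀ M, Function.Bijective (η₀ M) := fun M =>
    ((sHAdj F).homEquiv _ _).bijective.comp ⟨fun a b hab => (cancel_epi r.hom).1 hab, fun ψ => ⟨r.inv ≫ ψ, by simp⟩⟩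
  let η : ∀ M : X.Modules, (F ⟶ M) ≃ₗ[k] (Coh.structureModule X ⟶ (sH F).obj M) := fun M =>
    LinearEquiv.ofBijective
      { toFun := η₀ M
        map_add' := fun f g => by
          dsimp only [η₀]
          rw [Preadditive.comp_add, ← (sHAdj F).homAddEquiv_apply, map_add, (sHAdj F).homAddEquiv_apply,
            (sHAdj F).homAddEquiv_apply]
        map_smul' := fun a f => by
          have h1 : ∀ {P Q : X.Modules} (φ : P ⟶ Q), a • φ = φ ≫ Formal.smulMod k Q a := fun φ =>
            (KLin.comp_smulModΓ φ _).symm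
          simp only [RingHom.id_apply]
          rw [h1, h1, hη, sH_map_smulMod] }
      (hb M)
  have hG : ∀ (I : X.Modules) [Injective I], Ac (Coh.structureModule X) ((sH F).obj I) := fun I _ p =>
    haveI : Injective (C := ModSite.Mod X.sheaf) I := ‹Injective I›
    H02CA.ModUnitAcyclic.subsingleton_ext_unit X.sheaf (S6150.result X.sheaf F I) p
  obtain ⟨e⟩ := nonempty_ext_linearEquiv (k := k) η hη hG j N fun q hq => (ac_iff _).2 (h q hq)
  obtain ⟨e'⟩ := nonempty_hom_unit_linearEquiv k ((ModSite.extSh (O := X.sheaf) F j).obj N)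
  exact ⟨e.trans e'⟩

end adjunction

end Groth.Agent.H17.EdgeIso
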