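import Groth.Agent.H17.EdgeIso.Main
import Groth.Agent.H10Coh.TwistExact
import Groth.Agent.H10Coh.AffinePush

/-!
# Very negative twists on a closed subscheme of projective space, via Ext sheaves
-/

set_option autoImplicit false
set_option linter.style.haveILetI false
set_option synthInstance.maxHeartbeats 800000
set_option maxHeartbeats 1600000
set_option backward.isDefEq.respectTransparency false

universe u

open CategoryTheory CategoryTheory.Limits CategoryTheory.Abelian AlgebraicGeometry Opposite TopologicalSpace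
open Groth.Agent.H10Coh

namespace Groth.Agent.H17.EdgeIso

variable {k : Type u} [Field k] {n : ℕ} {X : Scheme.{u}}

/-- Cohomology on a closed subscheme as cohomology of the pushforward twisted. -/
theorem subsingleton_push_twist_iff (ι : X ⟶ CohB1.ProjSpace n k) [IsClosedImmersion ι] {G : X.Modules}
    (hG : Coh.IsCoh G) (a : ℤ) (p : ℕ) :
    Subsingleton (Coh.HH X (CohB1.tensorMod G ((Scheme.Modules.pullback ι).obj (Twist.twistProjSpace n k a))) p) ↔
      Subsingleton (Coh.HH (CohB1.ProjSpace n k)
        (CohB1.tensorMod ((Scheme.Modules.pushforward ι).obj G) (Twist.twistProjSpace n k a)) p) := by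
  have hinv := H22Alg.RegSheaf.isInvertible_twistProjSpace n k a
  have hq := (H11Ample.isCoh_tensor hG (H11Ample.isInvertible_pullback ι hinv)).1
  haveI : (CohB1.tensorMod G ((Scheme.Modules.pullback ι).obj (Twist.twistProjSpace n k a))).IsQuasicoherent := hq
  obtain ⟨e⟩ := H10Coh.Tw.nonempty_push_tensor_iso ι G hinv
  refine ((HHEquiv _ p).toEquiv.subsingleton_congr.trans
    ((H10Coh.affineLerayEquiv ι _ p ⊤).toEquiv.subsingleton_congr.symm.trans
      (HHEquiv _ p).toEquiv.subsingleton_congr.symm)).trans ?_
  exact ⟨fun h => subsingleton_HH_of_iso e.symm p h, fun h => subsingleton_HH_of_iso e p h⟩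

/-- Vanishing at very negative twists on a closed subscheme of projective space. -/
theorem van_closed_iff_isZero_extSh (ι : X ⟶ CohB1.ProjSpace n k) [IsClosedImmersion ι]
    [ModSite.HasSheafHom (O := (CohB1.ProjSpace n k).sheaf) ((Scheme.Modules.pushforward ι).obj (Coh.structureModule X))]
    [HasInjectiveResolutions (ModSite.Mod (CohB1.ProjSpace n k).sheaf)] {p : ℕ} (hp : p ≤ n) :
    (∃ m₀ : ℤ, ∀ m : ℤ, m₀ ≤ m →
        Subsingleton (Coh.HH X ((Scheme.Modules.pullback ι).obj (Twist.twistProjSpace n k (-m))) p)) ↔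
      IsZero ((ModSite.extSh (O := (CohB1.ProjSpace n k).sheaf) ((Scheme.Modules.pushforward ι).obj (Coh.structureModule X)) (n - p)).obj
        (Twist.twistProjSpace n k (-((n : ℤ) + 1)))) := by
  haveI : IsNoetherian (CohB1.ProjSpace n k) := ProjQ.isNoetherian_proj (Pn.Gr n k)
  haveI : IsLocallyNoetherian X := LocallyOfFiniteType.isLocallyNoetherian ι
  have hG : Coh.IsCoh (Coh.structureModule X) := isCoh_structureModule' X
  have hF : Coh.IsCoh ((Scheme.Modules.pushforward ι).obj (Coh.structureModule X)) := isCoh_push_of_isFinite ι _ hG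
  haveI : ModSite.HasSheafHom (O := (Proj (Pn.Gr n k)).sheaf) ((Scheme.Modules.pushforward ι).obj (Coh.structureModule X)) :=
    ‹ModSite.HasSheafHom (O := (CohB1.ProjSpace n k).sheaf) ((Scheme.Modules.pushforward ι).obj (Coh.structureModule X))›
  haveI : HasInjectiveResolutions (ModSite.Mod (Proj (Pn.Gr n k)).sheaf) :=
    ‹HasInjectiveResolutions (ModSite.Mod (CohB1.ProjSpace n k).sheaf)›
  refine Iff.trans (exists_congr fun m₀ => forall₂_congr fun m _ => ?_)
    (van_iff_isZero_extSh _ hF (i := p) (j := n - p) (by omega))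
  refine Iff.trans ?_ (subsingleton_push_twist_iff ι hG (-m) p)
  let e := H10Coh.Tw.leftUnitIso ((Scheme.Modules.pullback ι).obj (Twist.twistProjSpace n k (-m)))
  exact ⟨fun h => subsingleton_HH_of_iso e.symm p h, fun h => subsingleton_HH_of_iso e p h⟩

end Groth.Agent.H17.EdgeIso
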