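import Groth.Agent.H10Coh.Support
import Groth.Agent.H22Alg.PnPoints
import Groth.Agent.H05EGA4.Points
import Groth.Agent.H4LC.DualIso
import Groth.Agent.H4LC.CdDim
import Groth.Agent.H4Goren.Basic
import Groth.Agent.H4Inj.Essential

/-!
# Local duality at closed points, and closed supports
-/

set_option autoImplicit false
set_option linter.style.haveILetI false

universe u

open CategoryTheory CategoryTheory.Limits AlgebraicGeometry TopologicalSpace IsLocalRing

namespace Groth.Agent.H17.EdgeIso

/-- Maps into the injective hull of the residue field detect zero modules. -/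
theorem subsingleton_of_hom_hull {A : Type u} [CommRing A] [IsLocalRing A] {E : Type u} [AddCommGroup E] [Module A E]
    (f : ResidueField A →ₗ[A] E) (hf : InjHull.IsInjectiveHull f) (N : Type u) [AddCommGroup N] [Module A N]
    [Subsingleton (N →ₗ[A] E)] : Subsingleton N := by
  haveI := hf.isInjective
  refine subsingleton_of_forall_eq 0 fun x => by_contra fun hx => ?_
  let I := LinearMap.ker (LinearMap.toSpanSingleton A N x)
  have hI : I ≤ maximalIdeal A := IsLocalRing.le_maximalIdeal fun htop => hx (by
    have : (1 : A) ∈ I := htop ▸ Submodule.mem_top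
    simpa [I] using this)
  let g : (A ⧸ I) →ₗ[A] E := f ∘ₗ Submodule.factor hI
  let j : (A ⧸ I) →ₗ[A] N := I.liftQ (LinearMap.toSpanSingleton A N x) le_rfl
  have hj : Function.Injective j := LinearMap.ker_eq_bot.1 (Submodule.ker_liftQ_eq_bot _ _ _ le_rfl)
  obtain ⟨h, hh⟩ := Module.Injective.out (Q := E) j hj g
  have h1 := hh (Submodule.Quotient.mk (1 : A))
  rw [Subsingleton.elim h 0] at h1
  have h2 : f (Submodule.factor hI (Submodule.Quotient.mk (1 : A))) = f 0 := h1.symm.trans (map_zero f).symm
  have h3 := hf.toIsEssentialInj.injective h2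
  exact (Ideal.ne_top_iff_one _).1 (maximalIdeal.isMaximal A).ne_top ((Submodule.Quotient.mk_eq_zero _).1 h3)

/-- Local cohomology and Ext at a regular local ring vanish together in complementary degrees. -/
theorem subsingleton_H_iff {A : Type u} [CommRing A] [IsRegularLocalRing A] {r : ℕ} (hr : ringKrullDim A = r)
    (M : Type u) [AddCommGroup M] [Module A M] [Module.Finite A M] {i j : ℕ} (hij : i + j = r) :
    Subsingleton (LocCoh.H (maximalIdeal A) i M) ↔
      Subsingleton (Abelian.Ext (ModuleCat.of A M) (ModuleCat.of A A) j) := by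
  haveI := H4Goren.isGorensteinLocalRing_of_isRegularLocalRing A
  obtain ⟨E, _, _, f, hf⟩ := H4Inj.exists_isInjectiveHull (R := A) (ResidueField A)
  obtain ⟨e⟩ := H4LC.nonempty_localDuality (M := M) hr f hf hij
  rw [e.toEquiv.subsingleton_congr]
  exact ⟨fun h => subsingleton_of_hom_hull f hf _,
    fun h => ⟨fun a b => LinearMap.ext fun x => by rw [h.elim x 0, map_zero, map_zero]⟩⟩

/-- A coherent module vanishing at the closed points vanishes everywhere. -/
theorem subsingleton_stalk_of_closedPoints {X : Scheme.{u}} [IsLocallyNoetherian X] (M : X.Modules)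
    (hM : CohB1.IsFT M) (h : ∀ x : X, IsClosed ({x} : Set X) → Subsingleton (M.presheaf.stalk x)) (y : X) :
    Subsingleton (M.presheaf.stalk y) := by
  obtain ⟨z, hyz, hz⟩ := H05EGA4.exists_closedPoint X (closure ({y} : Set X)) isClosed_closure
    ⟨y, subset_closure rfl⟩
  obtain ⟨U, hzU, hU⟩ := H10Coh.exists_nhd_germ_eq_zero M hM z (h z hz)
  have hyU : y ∈ U := (specializes_iff_mem_closure.2 hyz).mem_open U.isOpen hzU
  refine subsingleton_of_forall_eq 0 fun a => ?_
  obtain ⟨O, hO, s, rfl⟩ := M.presheaf.exists_germ_eq a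
  exact hU y hyU O hO s

end Groth.Agent.H17.EdgeIso
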