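import Groth.Agent.H10Inj.SheafExt.Stalks
import Groth.Agent.H11Ample.Global

/-!
# Vanishing of Ext sheaves read at the stalks
-/

set_option autoImplicit false
set_option linter.style.haveILetI false
set_option synthInstance.maxHeartbeats 800000
set_option maxHeartbeats 1600000
set_option backward.isDefEq.respectTransparency false

universe u

open CategoryTheory CategoryTheory.Limits CategoryTheory.Abelian AlgebraicGeometry Opposite TopologicalSpace
open Groth.Agent.H10Inj.SheafExt Groth.Agent.H06Mod

namespace Groth.Agent.H17.EdgeIso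

attribute [local instance 10000] H10Coh.hasSheafifyAb H10Coh.hasWeakSheafifyAb H10Coh.hasExtAb H10Coh.enoughInjAb

variable {X : Scheme.{u}} (F : X.Modules)

/-- Stalks of derived sheaf Homs as Ext of stalks over the local rings. -/
theorem nonempty_stalk_ext [IsLocallyNoetherian X] [HasInjectiveResolutions X.Modules] (hF : Coh.IsCoh F)
    (x : X) (i : ℕ) (N : X.Modules) :
    Nonempty ((DerSch.stalkFunctor X x).obj (((homFunctor F).rightDerived i).obj N) ≃ₗ[X.presheaf.stalk x]
      Ext ((DerSch.stalkFunctor X x).obj F) ((DerSch.stalkFunctor X x).obj N) i) := by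
  let S := DerSch.stalkFunctor X x
  have hFP := H10Coh.isFP_of_isCoh F hF
  refine nonempty_rightDerived_ext (homFunctor F) S S (S.obj F) (fun _ => True) (fun _ _ => trivial)
    (fun N _ => ?_) (fun N _ => homStalkEquiv x F hFP N) (fun M M' _ _ g v => ?_) i N trivial
  · let T := ShortComplex.mk (Injective.ι N) (cokernel.π (Injective.ι N)) (cokernel.condition _)
    have hT : T.ShortExact := ShortComplex.ShortExact.mk' (ShortComplex.exact_cokernel _) inferInstance inferInstance
    haveI : Module.Injective (X.presheaf.stalk x) ((Injective.under N).presheaf.stalk x) :=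
      H10Inj.injective_stalk (Injective.under N) x
    exact ⟨T, hT, ⟨Iso.refl _⟩, inferInstanceAs (Injective (Injective.under N)), trivial, trivial,
      hT.map_of_exact S,
      Module.injective_object_of_injective_module (X.presheaf.stalk x) ((Injective.under N).presheaf.stalk x),
      ⟨PreservesCokernel.iso S _⟩⟩
  · refine ModuleCat.hom_ext (LinearMap.ext fun (m : F.presheaf.stalk x) => ?_)
    obtain ⟨V, hV, f, rfl⟩ := (RefHull.homSh F M).presheaf.exists_germ_eq v
    show RefHull.evalStalk F M' x (stalkLin ((homFunctor F).map g) x ((RefHull.homSh F M).presheaf.germ V x hV f)) m =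
      stalkLin g x (RefHull.evalStalk F M x ((RefHull.homSh F M).presheaf.germ V x hV f) m)
    erw [stalkLin_germ]
    refine (LinearMap.congr_fun (RefHull.evalAdd_germ F M' x hV _) m).trans ?_
    refine (homFunctor_map_apply F g V f ⟨x, hV⟩ m).trans ?_
    exact congrArg (stalkLin g x) (LinearMap.congr_fun (RefHull.evalAdd_germ F M x hV f) m).symm

theorem isZero_iff_stalks (M : X.Modules) : IsZero M ↔ ∀ x, Subsingleton (M.presheaf.stalk x) := by
  constructor
  · intro h x
    refine ⟨fun a b => ?_⟩
    obtain ⟨U, hU, s, rfl⟩ := M.presheaf.exists_germ_eq a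
    obtain ⟨V, hV, t, rfl⟩ := M.presheaf.exists_germ_eq b
    have h0 : ∀ (W : X.Opens) (z : Γ(M, W)), z = 0 := fun W z => by
      have := congrArg (fun f => f.app W) (h.eq_of_src (𝟙 M) 0)
      exact ConcreteCategory.congr_hom this z
    rw [h0 U s, h0 V t, map_zero, map_zero]
  · intro h
    rw [IsZero.iff_id_eq_zero]
    refine Scheme.Modules.hom_ext _ _ fun U => ConcreteCategory.hom_ext _ _ fun s => ?_
    refine TopCat.Presheaf.section_ext ⟨M.presheaf, M.isSheaf⟩ U _ _ fun x hx => ?_
    exact (h x).elim _ _

/-- Stalks of Ext sheaves into an invertible module. -/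
theorem subsingleton_stalk_extSh_iff [IsLocallyNoetherian X] (hF : Coh.IsCoh F) {L : X.Modules}
    (hL : PicF.IsInvertible L) [HasInjectiveResolutions X.Modules] (j : ℕ) (x : X) :
    Subsingleton ((((homFunctor F).rightDerived j).obj L).presheaf.stalk x) ↔
      Subsingleton (Ext (ModuleCat.of (X.presheaf.stalk x) (F.presheaf.stalk x))
        (ModuleCat.of (X.presheaf.stalk x) (X.presheaf.stalk x)) j) := by
  obtain ⟨e⟩ := nonempty_stalk_ext F hF x j L
  obtain ⟨V, s, hxV, hs⟩ := H11Ample.exists_gen hL x
  let ε : (DerSch.stalkFunctor X x).obj L ≅ ModuleCat.of (X.presheaf.stalk x) (X.presheaf.stalk x) :=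
    (LinearEquiv.ofBijective (LinearMap.toSpanSingleton (X.presheaf.stalk x) (L.presheaf.stalk x)
      (L.presheaf.germ V x hxV s)) (hs x hxV)).symm.toModuleIso
  let e2 : Ext ((DerSch.stalkFunctor X x).obj F) ((DerSch.stalkFunctor X x).obj L) j ≃
      Ext ((DerSch.stalkFunctor X x).obj F) (ModuleCat.of (X.presheaf.stalk x) (X.presheaf.stalk x)) j :=
    (extCongr (R := X.presheaf.stalk x) (Iso.refl _) ε j).toEquiv
  exact (e.toEquiv.trans e2).subsingleton_congr

theorem subsingleton_stalk_of_iso {M N : X.Modules} (e : M ≅ N) (x : X)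
    (h : Subsingleton (N.presheaf.stalk x)) : Subsingleton (M.presheaf.stalk x) :=
  haveI : Subsingleton ((DerSch.stalkFunctor X x).obj N) := h
  (((DerSch.stalkFunctor X x).mapIso e).toLinearEquiv.toEquiv).subsingleton

theorem subsingleton_stalk_extSh [IsLocallyNoetherian X] (hF : Coh.IsCoh F) {L : X.Modules} (hL : PicF.IsInvertible L)
    [ModSite.HasSheafHom (O := X.sheaf) F] [HasInjectiveResolutions (ModSite.Mod X.sheaf)] (j : ℕ) (x : X)
    (h : Subsingleton (Ext (ModuleCat.of (X.presheaf.stalk x) (F.presheaf.stalk x))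
      (ModuleCat.of (X.presheaf.stalk x) (X.presheaf.stalk x)) j)) :
    Subsingleton ((show X.Modules from (ModSite.extSh (O := X.sheaf) F j).obj L).presheaf.stalk x) :=
  haveI : HasInjectiveResolutions X.Modules := ‹HasInjectiveResolutions (ModSite.Mod X.sheaf)›
  subsingleton_stalk_of_iso (extShIso F j L) x ((subsingleton_stalk_extSh_iff F hF hL j x).2 h)

/-- Ext sheaves into an invertible module vanish iff the Ext groups of stalks into the local rings do. -/
theorem isZero_extSh_iff [IsLocallyNoetherian X] (hF : Coh.IsCoh F) {L : X.Modules} (hL : PicF.IsInvertible L)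
    [ModSite.HasSheafHom (O := X.sheaf) F] [HasInjectiveResolutions (ModSite.Mod X.sheaf)] (j : ℕ) :
    IsZero ((ModSite.extSh (O := X.sheaf) F j).obj L) ↔
      ∀ x : X, Subsingleton (Ext (ModuleCat.of (X.presheaf.stalk x) (F.presheaf.stalk x))
        (ModuleCat.of (X.presheaf.stalk x) (X.presheaf.stalk x)) j) := by
  haveI : HasInjectiveResolutions X.Modules := ‹HasInjectiveResolutions (ModSite.Mod X.sheaf)›
  rw [(extShIso F j L).isZero_iff, isZero_iff_stalks]
  exact forall_congr' fun x => subsingleton_stalk_extSh_iff F hF hL j x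

end Groth.Agent.H17.EdgeIso
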