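import Groth.Agent.H17.EdgeIso.Pn
import Groth.Agent.H17.EdgeIso.Stalk
import Groth.Agent.H17.EdgeIso.Local

/-!
# Criteria for vanishing at very negative twists on projective space
-/

set_option autoImplicit false
set_option linter.style.haveILetI false
set_option synthInstance.maxHeartbeats 800000
set_option maxHeartbeats 1600000
set_option backward.isDefEq.respectTransparency false

universe u

open CategoryTheory CategoryTheory.Limits CategoryTheory.Abelian AlgebraicGeometry Opposite TopologicalSpace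
open Groth.Agent.H10Coh

namespace Groth.Agent.H17.EdgeIso

/-- Every module has a sheaf Hom. -/
theorem hasSheafHom {X : Scheme.{u}} (F : X.Modules) : ModSite.HasSheafHom (O := X.sheaf) F :=
  ⟨_, ⟨(H10Inj.SheafExt.homAdj F).ofNatIsoLeft (H15Site.ModTensor.tLIso (O := X.sheaf) F)⟩⟩

theorem hasInjectiveResolutions (X : Scheme.{u}) : HasInjectiveResolutions (ModSite.Mod X.sheaf) := by
  haveI := H10Coh.isGrothendieckAbelian_sheafOfModules.{u} X.ringCatSheaf
  haveI : EnoughInjectives (ModSite.Mod X.sheaf) := IsGrothendieckAbelian.enoughInjectives.{u}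
  exact inferInstance

variable {k : Type u} [Field k] {r : ℕ}

/-- The stalk Ext criterion. -/
theorem van_iff_ext_stalks (F : (CohB1.ProjSpace r k).Modules) (hF : Coh.IsCoh F) {i j : ℕ} (hij : i + j = r) :
    (∃ m₀ : ℤ, ∀ m : ℤ, m₀ ≤ m →
        Subsingleton (Coh.HH (CohB1.ProjSpace r k) (Twist.twistBy (CohB1.polyGrading r k) F (-m)) i)) ↔
      ∀ x : CohB1.ProjSpace r k, Subsingleton (Abelian.Ext (ModuleCat.of ((CohB1.ProjSpace r k).presheaf.stalk x) (F.presheaf.stalk x))
        (ModuleCat.of ((CohB1.ProjSpace r k).presheaf.stalk x) ((CohB1.ProjSpace r k).presheaf.stalk x)) j) := by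
  haveI : IsNoetherian (Proj (Pn.Gr r k)) := ProjQ.isNoetherian_proj (Pn.Gr r k)
  haveI : ModSite.HasSheafHom (O := (Proj (Pn.Gr r k)).sheaf) F := hasSheafHom F
  haveI := hasInjectiveResolutions (Proj (Pn.Gr r k))
  exact (van_iff_isZero_extSh F hF hij).trans (isZero_extSh_iff (X := Proj (Pn.Gr r k)) F hF
    (H22Alg.RegSheaf.isInvertible_twistProjSpace r k _) j)

/-- The local cohomology criterion at closed points. -/
theorem van_iff_localCohomology (F : (CohB1.ProjSpace r k).Modules) (hF : Coh.IsCoh F) (i : ℕ) :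
    (∃ m₀ : ℤ, ∀ m : ℤ, m₀ ≤ m →
        Subsingleton (Coh.HH (CohB1.ProjSpace r k) (Twist.twistBy (CohB1.polyGrading r k) F (-m)) i)) ↔
      ∀ x : CohB1.ProjSpace r k, IsClosed ({x} : Set (CohB1.ProjSpace r k)) →
        Subsingleton (LocCoh.H (IsLocalRing.maximalIdeal ((CohB1.ProjSpace r k).presheaf.stalk x)) i
          (F.presheaf.stalk x)) := by
  haveI : IsNoetherian (Proj (Pn.Gr r k)) := ProjQ.isNoetherian_proj (Pn.Gr r k)
  haveI : IsNoetherian (CohB1.ProjSpace r k) := ProjQ.isNoetherian_proj (Pn.Gr r k)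
  rcases le_or_gt i r with hi | hi
  · obtain ⟨j, hij⟩ : ∃ j, i + j = r := ⟨r - i, by omega⟩
    haveI : ModSite.HasSheafHom (O := (Proj (Pn.Gr r k)).sheaf) F := hasSheafHom F
    haveI : ModSite.HasSheafHom (O := (CohB1.ProjSpace r k).sheaf) F := hasSheafHom F
    haveI := hasInjectiveResolutions (Proj (Pn.Gr r k))
    haveI := hasInjectiveResolutions (CohB1.ProjSpace r k)
    haveI : HasInjectiveResolutions (CohB1.ProjSpace r k).Modules :=
      ‹HasInjectiveResolutions (ModSite.Mod (CohB1.ProjSpace r k).sheaf)›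
    haveI : HasInjectiveResolutions (Proj (Pn.Gr r k)).Modules :=
      ‹HasInjectiveResolutions (ModSite.Mod (Proj (Pn.Gr r k)).sheaf)›
    rw [van_iff_ext_stalks F hF hij]
    constructor
    · intro h x hx
      haveI := H22Alg.PnPoints.isRegularLocalRing_stalk r k x
      haveI := H29Ref.finite_stalk F hF.2 x
      exact (subsingleton_H_iff (H22Alg.PnPoints.dim_stalk_of_isClosed r k hx) _ hij).2 (h x)
    · intro h
      let L := Pn.Od r k 0
      have hL : PicF.IsInvertible L := H22Alg.RegSheaf.isInvertible_twistProjSpace r k 0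
      have hE : Coh.IsCoh ((ModSite.extSh (O := (Proj (Pn.Gr r k)).sheaf) F j).obj L) :=
        isCoh_of_iso (H10Inj.SheafExt.extShIso F j L).symm
          (H10Inj.SheafExt.isCoh_rightDerived F hF j L (ProjQ.isCoh_tilde_twist (Pn.Gr r k) _))
      refine (isZero_extSh_iff (X := Proj (Pn.Gr r k)) F hF hL j).1 ((isZero_iff_stalks _).2
        (subsingleton_stalk_of_closedPoints _ hE.2 fun x hx => ?_))
      haveI := H22Alg.PnPoints.isRegularLocalRing_stalk r k x
      haveI : IsRegularLocalRing ((Proj (Pn.Gr r k)).presheaf.stalk x) := H22Alg.PnPoints.isRegularLocalRing_stalk r k x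
      haveI := H29Ref.finite_stalk F hF.2 x
      have he := (subsingleton_H_iff (H22Alg.PnPoints.dim_stalk_of_isClosed r k hx) _ hij).1 (h x hx)
      exact subsingleton_stalk_extSh F hF hL j x he
  · refine iff_of_true ⟨0, fun m _ => ?_⟩ fun x hx => ?_
    · haveI : (CohB1.tensorMod F (Pn.Od r k (-m))).IsQuasicoherent :=
        (H11Ample.isCoh_tensor hF (H22Alg.RegSheaf.isInvertible_twistProjSpace r k (-m))).1
      exact @Equiv.subsingleton _ _ (HHEquiv _ i).toEquiv (Pn.subsingleton_HnM_proj (CohB1.tensorMod F (Pn.Od r k (-m))) hi)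
    · haveI := H22Alg.PnPoints.isRegularLocalRing_stalk r k x
      refine H4LC.subsingleton_H_of_supportDim_lt _ i _ (lt_of_le_of_lt (Module.supportDim_le_ringKrullDim _ _) ?_)
      rw [H22Alg.PnPoints.dim_stalk_of_isClosed r k hx]
      exact_mod_cast hi

end Groth.Agent.H17.EdgeIso
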