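import Groth.Agent.H17.EdgeIso.ClosedVan
import Groth.Agent.H15Site.Invertible
import Groth.Agent.S10934

/-!
# Duality by vanishing forces Cohen–Macaulay
-/

set_option autoImplicit false
set_option linter.style.haveILetI false
set_option synthInstance.maxHeartbeats 800000
set_option maxHeartbeats 1600000
set_option backward.isDefEq.respectTransparency false

universe u

open CategoryTheory CategoryTheory.Limits CategoryTheory.Abelian AlgebraicGeometry Opposite TopologicalSpace
open Groth.Agent.H10Coh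

namespace Groth.Agent.H17.EdgeIso

/-- Higher Ext sheaves out of finite locally free modules vanish. -/
theorem isZero_extSh_of_flf {X : Scheme.{u}} [IsLocallyNoetherian X] {F : X.Modules} (hF : FlatMod.IsFinLocFree F)
    (N : X.Modules) (i : ℕ) [ModSite.HasSheafHom (O := X.sheaf) F] [HasInjectiveResolutions (ModSite.Mod X.sheaf)] :
    IsZero ((ModSite.extSh (O := X.sheaf) F (i + 1)).obj N) := by
  haveI : HasInjectiveResolutions X.Modules := ‹HasInjectiveResolutions (ModSite.Mod X.sheaf)›
  rw [(H10Inj.SheafExt.extShIso F (i + 1) N).isZero_iff, isZero_iff_stalks]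
  intro x
  obtain ⟨e⟩ := nonempty_stalk_ext F (H10Coh.Tw.isCoh_of_vb hF) x (i + 1) N
  haveI : Module.Free (X.presheaf.stalk x) (F.presheaf.stalk x) := H8Props.FinLocFree.free_stalk F hF x
  haveI : Module.Projective (X.presheaf.stalk x) (F.presheaf.stalk x) := Module.Projective.of_free
  haveI : Projective ((DerSch.stalkFunctor X x).obj F) :=
    (IsProjective.iff_projective (R := X.presheaf.stalk x) (F.presheaf.stalk x)).1 inferInstance
  haveI : Subsingleton (Ext ((DerSch.stalkFunctor X x).obj F) ((DerSch.stalkFunctor X x).obj N) (i + 1)) :=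
    subsingleton_of_forall_eq 0 fun z => Ext.eq_zero_of_projective z
  exact e.toEquiv.subsingleton

variable {k : Type u} [Field k] {N n : ℕ} {X : Scheme.{u}} [X.Over (Spec (CommRingCat.of k))]

/-- Vanishing duality implies equidimensional Cohen–Macaulay. -/
theorem cohenMacaulay_of_dual (ι : X ⟶ CohB1.ProjSpace N k) [IsClosedImmersion ι]
    (hι : ι ≫ CohB1.ProjSpace.toSpec N k = X ↘ Spec (CommRingCat.of k)) (hn : topologicalKrullDim ↥X = n)
    [HasExt.{u} X.Modules] (ω : X.Modules) (hω : Coh.IsCoh ω)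
    (h : ∀ F : X.Modules, Coh.IsCoh F → ∀ i : ℕ, i ≤ n →
        (Subsingleton (Abelian.Ext F ω i) ↔ Subsingleton (Coh.HH X F (n - i)))) :
    ∀ x : X, IsClosed ({x} : Set ↥X) →
      LocCoh.IsCohenMacaulayLocalRing (X.presheaf.stalk x) ∧ ringKrullDim (X.presheaf.stalk x) = n := by
  haveI : IsNoetherian (CohB1.ProjSpace N k) := ProjQ.isNoetherian_proj (Pn.Gr N k)
  haveI : IsLocallyNoetherian X := LocallyOfFiniteType.isLocallyNoetherian ι
  haveI : IsGrothendieckAbelian.{u} X.Modules := H10Coh.isGrothendieckAbelian_sheafOfModules _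
  haveI : EnoughInjectives X.Modules := inferInstance
  haveI := hasInjectiveResolutions X
  refine (Groth.Agent.S10934.result k N n ι hn).2 fun F hF => ?_
  haveI : ModSite.HasSheafHom (O := X.sheaf) F := hasSheafHom F
  have hFc := H10Coh.Tw.isCoh_of_vb hF
  choose d₀ hd₀ using fun i => exists_ext_linearEquiv_sections ι hι F ω hFc hω i
  refine ⟨(Finset.range (n + 1)).sup d₀, fun q hq j hj => ?_⟩
  let L := twX ι (-(q : ℤ))
  let L' := twX ι (q : ℤ)
  have hL : PicF.IsInvertible L := H11Ample.isInvertible_pullback ι (H22Alg.RegSheaf.isInvertible_twistProjSpace N k _)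
  obtain ⟨eT⟩ := ((H10Coh.Stab.isTwistFamily_projSpace N k).pullback ι).add (-(q : ℤ)) q
  obtain ⟨e0⟩ := ((H10Coh.Stab.isTwistFamily_projSpace N k).pullback ι).zero
  let eu : CohB1.tensorMod L L' ≅ Coh.structureModule X :=
    eT ≪≫ eqToIso (congrArg (twX ι) (neg_add_cancel (q : ℤ))) ≪≫ e0
  haveI : ((DCoh.tensorBi (X := X)).obj L).IsEquivalence :=
    H15Site.Invertible.isEquivalence_of_iso_unit (O := X.sheaf) (L := L) (N := L') eu
  let E := ((DCoh.tensorBi (X := X)).obj L).asEquivalence
  haveI : E.inverse.Additive := Functor.additive_of_preserves_binary_products _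
  obtain ⟨f⟩ := H10Inj.SheafExt.nonempty_ext_adj E.toAdjunction F ω (n - j)
  let u : (DCoh.tensorBi (X := X)).obj L' ⋙ (DCoh.tensorBi (X := X)).obj L ≅ 𝟭 X.Modules :=
    H15Site.Invertible.tLComp (O := X.sheaf) L L' ≪≫ (DCoh.tensorBi (X := X)).mapIso eu ≪≫
      H15Site.ModOver.tensorUnitIso X.sheaf
  let e : E.inverse.obj ω ≅ CohB1.tensorMod ω L' :=
    E.inverse.mapIso (u.app ω).symm ≪≫ (E.unitIso.app (((DCoh.tensorBi (X := X)).obj L').obj ω)).symm ≪≫
      H15Site.Invertible.symmIso (O := X.sheaf) L' ω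
  have h0 : Subsingleton (Abelian.Ext F (CohB1.tensorMod ω L') (n - j)) := by
    obtain ⟨ee⟩ := hd₀ (n - j) q ((Finset.le_sup (Finset.mem_range.2 (by omega))).trans hq)
    haveI : Subsingleton (Coh.HH X ((ModSite.extSh (O := X.sheaf) F (n - j)).obj (CohB1.tensorMod ω L')) 0) := by
      obtain ⟨c, hc⟩ : ∃ c, n - j = c + 1 := ⟨n - j - 1, by omega⟩
      rw [hc]
      obtain ⟨M, hM⟩ : ∃ M : X.Modules, M = (ModSite.extSh (O := X.sheaf) F (c + 1)).obj (CohB1.tensorMod ω L') :=
        ⟨_, rfl⟩
      have hz : IsZero M := by rw [hM]; exact isZero_extSh_of_flf hF (CohB1.tensorMod ω L') c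
      change Subsingleton (Coh.HH X ((ModSite.extSh (O := X.sheaf) F (c + 1)).obj (CohB1.tensorMod ω L') : X.Modules) 0)
      rw [← hM]
      haveI : Subsingleton Γ(M, ⊤) :=
        ⟨fun a b => by
          have h := congrArg (fun f : M ⟶ M => f.app ⊤) (hz.eq_of_src (𝟙 M) 0)
          exact (ConcreteCategory.congr_hom h a).trans (ConcreteCategory.congr_hom h b).symm⟩
      exact (HH0Equiv _).toEquiv.subsingleton
    exact ee.toEquiv.subsingleton
  have h1 : Subsingleton (Abelian.Ext (((DCoh.tensorBi (X := X)).obj L).obj F) ω (n - j)) :=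
    haveI := subsingleton_ext_of_iso e.symm h0
    f.toEquiv.subsingleton
  have h2 := (h _ (H11Ample.isCoh_tensor hFc hL |> fun hc => isCoh_of_iso
    (H15Site.Invertible.symmIso (O := X.sheaf) F L) hc) (n - j) (by omega)).1 h1
  rw [show n - (n - j) = j by omega] at h2
  exact subsingleton_HH_of_iso (H15Site.Invertible.symmIso (O := X.sheaf) L F) j h2

end Groth.Agent.H17.EdgeIso
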