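import Groth.Agent.H15Site.HigherDirect
import Mathlib.Algebra.Homology.DerivedCategory.Ext.Linear
import Mathlib.Algebra.Homology.DerivedCategory.Ext.EnoughInjectives
import Mathlib.Algebra.Homology.DerivedCategory.Ext.ExactSequences
import Mathlib.CategoryTheory.Linear.Basic
import Mathlib.LinearAlgebra.Isomorphisms

/-!
# `Ext^j(F, N) = Hom(O, R^jG N)` when the derived objects are acyclic

`Hom(F, -) = Hom(O, G -)` with `G` left exact sending injectives to `O`-acyclic objects: if `R^qG(N)` is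
`O`-acyclic for all `q ≤ j` then `Ext^j(F, N) = Hom(O, R^jG(N))`, by dimension shifting.
-/

set_option autoImplicit false
set_option linter.style.haveILetI false
set_option linter.unusedSectionVars false

universe w v u

open CategoryTheory CategoryTheory.Limits CategoryTheory.Abelian

namespace Groth.Agent.H17.EdgeIso

variable {k : Type*} [CommRing k] {A : Type u} [Category.{v} A] [Abelian A] [Linear k A] [HasExt.{w} A]
  [EnoughInjectives A]

/-- No higher Ext from `O`. -/
def Ac (O M : A) : Prop := ∀ p : ℕ, Subsingleton (Ext O M (p + 1))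

theorem ac_iso {O M M' : A} (e : M ≅ M') (h : Ac O M) : Ac O M' := fun p => by
  refine subsingleton_of_forall_eq 0 fun x => ?_
  rw [← Ext.comp_mk₀_id x, ← e.inv_hom_id, ← Ext.mk₀_comp_mk₀, ← Ext.comp_assoc_of_third_deg_zero,
    (h p).elim (x.comp (Ext.mk₀ e.inv) (add_zero _)) 0, Ext.zero_comp]

theorem ac_of_injective (O I : A) [Injective I] : Ac O I := fun p =>
  subsingleton_of_forall_eq 0 fun x => Ext.eq_zero_of_injective x

theorem ac_X₂ {O : A} {S : ShortComplex A} (hS : S.ShortExact) (h₁ : Ac O S.X₁) (h₃ : Ac O S.X₃) :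
    Ac O S.X₂ := fun p => by
  refine subsingleton_of_forall_eq 0 fun x => ?_
  obtain ⟨y, rfl⟩ := Ext.covariant_sequence_exact₂ _ hS x ((h₃ p).elim _ _)
  rw [(h₁ p).elim y 0, Ext.zero_comp]

theorem ac_X₃ {O : A} {S : ShortComplex A} (hS : S.ShortExact) (h₂ : Ac O S.X₂) (h₁ : Ac O S.X₁) :
    Ac O S.X₃ := fun p => by
  refine subsingleton_of_forall_eq 0 fun x => ?_
  obtain ⟨y, rfl⟩ := Ext.covariant_sequence_exact₃ _ hS x (n₁ := p + 1 + 1) rfl ((h₁ (p + 1)).elim _ _)
  rw [(h₂ p).elim y 0, Ext.zero_comp]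

theorem surjective_comp_of_ac {O : A} {S : ShortComplex A} (hS : S.ShortExact) (h₁ : Ac O S.X₁) :
    Function.Surjective fun f : O ⟶ S.X₂ => f ≫ S.g := fun g => by
  obtain ⟨y, hy⟩ := Ext.covariant_sequence_exact₃ _ hS (Ext.mk₀ g) (n₁ := 1) rfl ((h₁ 0).elim _ _)
  obtain ⟨f, rfl⟩ := (Ext.mk₀_bijective _ _).2 y
  exact ⟨f, (Ext.mk₀_bijective _ _).1 (by rw [← Ext.mk₀_comp_mk₀]; exact hy)⟩

variable (G : A ⥤ A) [G.Additive] [PreservesFiniteLimits G] (O F : A)

/-- The sequence `0 → GI/GN → GN' → R¹G N → 0`. -/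
theorem exists_cokernel_seq {S : ShortComplex A} (hS : S.ShortExact) [Injective S.X₂]
    (h0 : Ac O (G.obj S.X₁)) (h1 : Ac O ((G.rightDerived 1).obj S.X₁)) (hI : Ac O (G.obj S.X₂)) :
    Ac O (G.obj S.X₃) ∧
      ∃ q : G.obj S.X₃ ⟶ (G.rightDerived 1).obj S.X₁, G.map S.g ≫ q = 0 ∧
        (∀ f : O ⟶ G.obj S.X₃, f ≫ q = 0 → ∃ g : O ⟶ G.obj S.X₂, g ≫ G.map S.g = f) ∧
        Function.Surjective fun f : O ⟶ G.obj S.X₃ => f ≫ q := by
  obtain ⟨e⟩ := H15Site.HigherDirect.nonempty_rightDerived_one_iso G hS (G.isZero_rightDerived_obj_injective_succ 0 _)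
  haveI := hS.mono_f
  let B := Abelian.image (G.map S.g)
  have hk : (ShortComplex.mk (G.map S.f) (Abelian.factorThruImage (G.map S.g)) (by
      rw [← cancel_mono (Abelian.image.ι (G.map S.g)), Category.assoc, Abelian.image.fac, zero_comp, ← G.map_comp,
        S.zero, G.map_zero])).ShortExact := by
    refine { exact := ?_, mono_f := inferInstanceAs (Mono (G.map S.f)), epi_g := inferInstanceAs (Epi (Abelian.factorThruImage _)) }
    have h := hS.exact.map_of_mono_of_preservesKernel G inferInstance inferInstance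
    refine ShortComplex.exact_of_f_is_kernel _ ?_
    haveI : Mono (S.map G).f := inferInstanceAs (Mono (G.map S.f))
    refine KernelFork.IsLimit.ofι' _ _ fun {W} g hg => ?_
    refine ⟨h.lift g ?_, h.lift_f g ?_⟩ <;>
    · change g ≫ G.map S.g = 0
      refine (congrArg (g ≫ ·) (Abelian.image.fac (G.map S.g)).symm).trans ?_
      exact (Category.assoc _ _ _).symm.trans ((congrArg (· ≫ Abelian.image.ι (G.map S.g)) hg).trans zero_comp)
  have hB : Ac O B := ac_X₃ hk hI h0
  have hq : (ShortComplex.mk (Abelian.image.ι (G.map S.g)) (cokernel.π (G.map S.g))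
      (kernel.condition _)).ShortExact :=
    { exact := ShortComplex.exact_of_f_is_kernel _ (kernelIsKernel _)
      mono_f := inferInstanceAs (Mono (Abelian.image.ι _))
      epi_g := inferInstanceAs (Epi (cokernel.π _)) }
  refine ⟨ac_X₂ hq hB (ac_iso e h1), cokernel.π (G.map S.g) ≫ e.inv, by simp, fun f hf => ?_, fun g => ?_⟩
  · rw [← Category.assoc, ← cancel_mono e.hom, Category.assoc, e.inv_hom_id, Category.comp_id, zero_comp] at hf
    let f' : O ⟶ B := kernel.lift _ f hf
    obtain ⟨g, hg⟩ := surjective_comp_of_ac hk h0 f'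
    refine ⟨g, ?_⟩
    rw [← Abelian.image.fac (G.map S.g), ← Category.assoc, show g ≫ Abelian.factorThruImage _ = f' from hg]
    exact kernel.lift_ι _ _ _
  · obtain ⟨f, hf⟩ := surjective_comp_of_ac hq hB (g ≫ e.hom)
    exact ⟨f, by dsimp only at hf ⊢; rw [← Category.assoc, hf, Category.assoc, e.hom_inv_id, Category.comp_id]⟩

variable {G O F}

/-- The edge isomorphism. -/
theorem nonempty_ext_linearEquiv (η : ∀ N : A, (F ⟶ N) ≃ₗ[k] (O ⟶ G.obj N))
    (hη : ∀ {N N' : A} (f : F ⟶ N) (g : N ⟶ N'), η N' (f ≫ g) = η N f ≫ G.map g)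
    (hG : ∀ (I : A) [Injective I], Ac O (G.obj I)) :
    ∀ (j : ℕ) (N : A), (∀ q ≤ j, Ac O ((G.rightDerived q).obj N)) →
      Nonempty (Ext F N j ≃ₗ[k] (O ⟶ (G.rightDerived j).obj N)) := by
  intro j
  induction j with
  | zero =>
    intro N _
    exact ⟨(Ext.linearEquiv₀ (R := k)).trans ((η N).trans
      (Linear.homCongr k (Iso.refl O) (G.rightDerivedZeroIsoSelf.app N).symm))⟩
  | succ j ih =>
    intro N hN
    let I := Injective.under N
    let ι : N ⟶ I := Injective.ι N
    let S := ShortComplex.mk ι (cokernel.π ι) (cokernel.condition ι)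
    have hS : S.ShortExact :=
      { exact := ShortComplex.exact_of_g_is_cokernel _ (cokernelIsCokernel ι)
        mono_f := inferInstanceAs (Mono (Injective.ι N)) }
    haveI : Injective S.X₂ := inferInstanceAs (Injective (Injective.under N))
    obtain ⟨hN', q, hq0, hqker, hqsurj⟩ := exists_cokernel_seq G O hS
      (ac_iso (G.rightDerivedZeroIsoSelf.app N) (hN 0 (Nat.zero_le _))) (hN 1 (by omega)) (hG S.X₂)
    cases j with
    | zero =>
      let δ : (F ⟶ S.X₃) →ₗ[k] Ext F S.X₁ 1 :=
        (Ext.postcompOfLinear hS.extClass k F (a := 0) (b := 1) rfl).comp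
          (Ext.linearEquiv₀ (R := k) (X := F) (Y := S.X₃)).symm.toLinearMap
      have hδ : ∀ f, δ f = (Ext.mk₀ f).comp hS.extClass (zero_add 1) := fun f => rfl
      have hδs : Function.Surjective δ := fun x => by
        obtain ⟨x₃, hx₃⟩ := Ext.covariant_sequence_exact₁ F hS x (Ext.eq_zero_of_injective _) (zero_add 1)
        obtain ⟨f, rfl⟩ := (Ext.mk₀_bijective F S.X₃).2 x₃
        exact ⟨f, hx₃⟩
      let p : (F ⟶ S.X₃) →ₗ[k] (O ⟶ (G.rightDerived 1).obj N) :=
        (Linear.rightComp k O q).comp (η S.X₃).toLinearMap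
      have hps : Function.Surjective p := fun g => by
        obtain ⟨f, hf⟩ := hqsurj g
        exact ⟨(η S.X₃).symm f, by
          change (η S.X₃) ((η S.X₃).symm f) ≫ q = g
          rw [LinearEquiv.apply_symm_apply]; exact hf⟩
      have hker : LinearMap.ker δ = LinearMap.ker p := by
        ext f
        simp only [LinearMap.mem_ker]
        constructor
        · intro hf
          obtain ⟨x₂, hx₂⟩ := Ext.covariant_sequence_exact₃ F hS (Ext.mk₀ f) (zero_add 1) hf
          obtain ⟨g, rfl⟩ := (Ext.mk₀_bijective F S.X₂).2 x₂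
          rw [Ext.mk₀_comp_mk₀] at hx₂
          rw [← (Ext.mk₀_bijective F S.X₃).1 hx₂]
          change η S.X₃ (g ≫ S.g) ≫ q = 0
          rw [hη, Category.assoc, hq0, comp_zero]
        · intro hf
          obtain ⟨g, hg⟩ := hqker _ hf
          have : f = (η S.X₂).symm g ≫ S.g := (η S.X₃).injective (by rw [hη, LinearEquiv.apply_symm_apply, hg]; rfl)
          rw [hδ, this, ← Ext.mk₀_comp_mk₀, Ext.comp_assoc_of_second_deg_zero, hS.comp_extClass, Ext.comp_zero]
      exact ⟨(δ.quotKerEquivOfSurjective hδs).symm.trans ((Submodule.quotEquivOfEq _ _ hker).trans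
        (p.quotKerEquivOfSurjective hps))⟩
    | succ j =>
      have hshift : ∀ p : ℕ, Nonempty ((G.rightDerived (p + 1)).obj S.X₃ ≅ (G.rightDerived (p + 1 + 1)).obj N) :=
        fun p => H15Site.HigherDirect.nonempty_rightDerived_succ_iso G hS p (G.isZero_rightDerived_obj_injective_succ p _)
          (G.isZero_rightDerived_obj_injective_succ (p + 1) _)
      obtain ⟨e⟩ := ih S.X₃ fun q' hq' => by
        cases q' with
        | zero => exact ac_iso (G.rightDerivedZeroIsoSelf.app _).symm hN'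
        | succ p => exact ac_iso (hshift p).some.symm (hN (p + 1 + 1) (by omega))
      refine ⟨((LinearEquiv.ofBijective (Ext.postcompOfLinear hS.extClass k F (a := j + 1) (b := j + 1 + 1) rfl)
        ⟨?_, ?_⟩).symm).trans (e.trans (Linear.homCongr k (Iso.refl O) (hshift j).some))⟩
      · refine (injective_iff_map_eq_zero _).2 fun x hx => ?_
        obtain ⟨x₂, rfl⟩ := Ext.covariant_sequence_exact₃ F hS x rfl hx
        rw [Ext.eq_zero_of_injective x₂, Ext.zero_comp]
      · exact fun x => Ext.covariant_sequence_exact₁ F hS x (Ext.eq_zero_of_injective _) rfl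

end Groth.Agent.H17.EdgeIso
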