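import Groth.Agent.H17.EdgeIso.Twist
import Groth.Agent.H17.PnExt.Shape
import Groth.Agent.H17.Horrocks.Twists
import Groth.Agent.H10Inj.SheafExt.ExtAdj
import Groth.Agent.H10Inj.SheafExt.Stalks
import Groth.Agent.H29Serre.Duality
import Groth.Agent.H11Ample.Global

/-!
# Vanishing at very negative twists on projective space, via Ext sheaves
-/

set_option autoImplicit false
set_option linter.style.haveILetI false
set_option synthInstance.maxHeartbeats 800000
set_option maxHeartbeats 1600000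
set_option backward.isDefEq.respectTransparency false

universe u

open CategoryTheory CategoryTheory.Limits CategoryTheory.Abelian AlgebraicGeometry Opposite TopologicalSpace
open Groth.Agent.H10Coh

namespace Groth.Agent.H17.EdgeIso

open Horrocks

attribute [local instance 10000] hasSheafifyAb hasWeakSheafifyAb hasExtAb enoughInjAb

variable {r : ℕ} {k : Type u} [Field k]

/-- A coherent module without sections in all large twists is zero. -/
theorem isZero_of_H0 (E : (Proj (Pn.Gr r k)).Modules) (hE : Coh.IsCoh E)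
    (h : ∃ m₀ : ℕ, ∀ m : ℕ, m₀ ≤ m → Subsingleton (Coh.HH (Proj (Pn.Gr r k)) ((T r k (m : ℤ)).obj E) 0)) :
    IsZero E := by
  obtain ⟨m₀, hm⟩ := h
  obtain ⟨n₀, hn⟩ := H11Tilde.eventually_quotient_negative_twists (Pn.Gr r k)
    (Set.finite_range (MvPolynomial.X : Fin (r + 1) → MvPolynomial (Fin (r + 1)) k)).toFinset
    (fun f hf => by
      obtain ⟨i, rfl⟩ := (Set.Finite.mem_toFinset _).1 hf
      exact H11Proj.ProjSpace.X_mem r k i)
    (H29Serre.irrelevant_eq_span_X r) E hE.1 hE.2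
  obtain ⟨m, hm₀, hmn⟩ : ∃ m : ℕ, m₀ ≤ m ∧ n₀ ≤ m := ⟨max n₀ m₀, le_max_right _ _, le_max_left _ _⟩
  obtain ⟨s, p, hp⟩ : ∃ (s : ℕ) (p : (∐ fun _ : Fin s => Pn.Od r k (-(m : ℤ))) ⟶ E), Epi p := hn m hmn
  have hp0 : p = 0 := by
    refine Sigma.hom_ext _ _ fun i => ?_
    rw [comp_zero]
    obtain ⟨e₁⟩ := nonempty_T_od (n := r) (R := k) (show (0 : ℤ) = (m : ℤ) + -(m : ℤ) by omega)
    obtain ⟨e₀⟩ := H11Tilde.nonempty_twist_zero_iso (Pn.Gr r k)
    refine (T r k (m : ℤ)).map_injective ?_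
    rw [Functor.map_zero, ← cancel_epi (e₀.inv ≫ e₁.inv), comp_zero]
    haveI hsub : Subsingleton Γ((T r k (m : ℤ)).obj E, ⊤) :=
      @Equiv.subsingleton _ _ (HH0Equiv _).toEquiv.symm (hm m hm₀)
    generalize (e₀.inv ≫ e₁.inv) ≫ (T r k (m : ℤ)).map
      (Sigma.ι (fun _ : Fin s => Pn.Od r k (-(m : ℤ))) i ≫ p) = f
    exact ((T r k (m : ℤ)).obj E).unitHomEquiv.injective
      (Subtype.ext (funext fun W => by
        have hs := ((T r k (m : ℤ)).obj E).unitHomEquiv f |>.2 (homOfLE (le_top : W.unop ≤ ⊤)).op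
        have hs' := ((T r k (m : ℤ)).obj E).unitHomEquiv 0 |>.2 (homOfLE (le_top : W.unop ≤ ⊤)).op
        rw [← hs, ← hs']
        exact congrArg _ (hsub.elim _ _)))
  haveI := hp
  rw [IsZero.iff_id_eq_zero, ← cancel_epi p, hp0, zero_comp, zero_comp]

/-- Ext into `ω` of a negative twist. -/
theorem nonempty_ext_twist [HasExt.{u} (Proj (Pn.Gr r k)).Modules] (F : (Proj (Pn.Gr r k)).Modules) (m a : ℤ) (j : ℕ) :
    Nonempty (Ext.{u} ((T r k (-m)).obj F) (Pn.Od r k a) j ≃+ Ext.{u} F ((T r k m).obj (Pn.Od r k a)) j) := by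
  haveI : IsGrothendieckAbelian.{u} (Proj (Pn.Gr r k)).Modules := isGrothendieckAbelian_sheafOfModules _
  haveI : EnoughInjectives (Proj (Pn.Gr r k)).Modules := inferInstance
  let E := (T r k (-m)).asEquivalence
  haveI : E.inverse.Additive := Functor.additive_of_preserves_binary_products _
  obtain ⟨f⟩ := H10Inj.SheafExt.nonempty_ext_adj E.toAdjunction F (Pn.Od r k a) j
  let e : E.inverse.obj (Pn.Od r k a) ≅ (T r k m).obj (Pn.Od r k a) :=
    ((E.inverse.mapIso ((TCompIso (show (0 : ℤ) = -m + m by omega) ≪≫ TZeroIso).app (Pn.Od r k a)).symm) ≪≫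
      (E.unitIso.app ((T r k m).obj (Pn.Od r k a))).symm)
  exact ⟨f.trans
    { toFun := fun x => x.comp (Ext.mk₀ e.hom) (add_zero j)
      invFun := fun x => x.comp (Ext.mk₀ e.inv) (add_zero j)
      left_inv := fun x => by simp
      right_inv := fun x => by simp
      map_add' := fun x y => Ext.add_comp _ _ _ _ }⟩

theorem subsingleton_dual_iff (V : Type u) [AddCommGroup V] [Module k V] :
    Subsingleton (Module.Dual k V) ↔ Subsingleton V :=
  ⟨fun h => (Module.subsingleton_dual_iff k).1 h,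
    fun h => ⟨fun a b => LinearMap.ext fun x => by rw [h.elim x 0, map_zero, map_zero]⟩⟩

theorem subsingleton_ext_of_iso {C : Type*} [Category C] [Abelian C] [HasExt.{u} C] {F M N : C} (e : M ≅ N)
    {j : ℕ} (h : Subsingleton (Ext.{u} F M j)) : Subsingleton (Ext.{u} F N j) := by
  refine subsingleton_of_forall_eq 0 fun x => ?_
  rw [← Ext.comp_mk₀_id x, ← e.inv_hom_id, ← Ext.mk₀_comp_mk₀, ← Ext.comp_assoc_of_third_deg_zero,
    h.elim (x.comp (Ext.mk₀ e.inv) (add_zero _)) 0, Ext.zero_comp]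

/-- Vanishing at very negative twists is vanishing of the complementary Ext sheaf. -/
theorem van_iff_isZero_extSh (F : (Proj (Pn.Gr r k)).Modules) (hF : Coh.IsCoh F) {i j : ℕ} (hij : i + j = r)
    [ModSite.HasSheafHom (O := (Proj (Pn.Gr r k)).sheaf) F]
    [HasInjectiveResolutions (ModSite.Mod (Proj (Pn.Gr r k)).sheaf)] :
    (∃ m₀ : ℤ, ∀ m : ℤ, m₀ ≤ m →
        Subsingleton (Coh.HH (Proj (Pn.Gr r k)) (CohB1.tensorMod F (Pn.Od r k (-m))) i)) ↔
      IsZero ((ModSite.extSh (O := (Proj (Pn.Gr r k)).sheaf) F j).obj (Pn.Od r k (-((r : ℤ) + 1)))) := by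
  haveI : IsGrothendieckAbelian.{u} (Proj (Pn.Gr r k)).Modules := isGrothendieckAbelian_sheafOfModules _
  haveI : HasExt.{u} (Proj (Pn.Gr r k)).Modules := hasExt_of_enoughInjectives _
  haveI : IsNoetherian (Proj (Pn.Gr r k)) := ProjQ.isNoetherian_proj (Pn.Gr r k)
  haveI : HasInjectiveResolutions (Proj (Pn.Gr r k)).Modules :=
    ‹HasInjectiveResolutions (ModSite.Mod (Proj (Pn.Gr r k)).sheaf)›
  letI : (CohB1.ProjSpace r k).Over (Spec (CommRingCat.of k)) := ⟨CohB1.ProjSpace.toSpec r k⟩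
  let ω := Pn.Od r k (-((r : ℤ) + 1))
  let S := (ModSite.extSh (O := (Proj (Pn.Gr r k)).sheaf) F j).obj ω
  have hω : Coh.IsCoh ω := ProjQ.isCoh_tilde_twist (Pn.Gr r k) _
  have hS : Coh.IsCoh S := isCoh_of_iso (H10Inj.SheafExt.extShIso F j ω).symm
    (H10Inj.SheafExt.isCoh_rightDerived F hF j ω hω)
  haveI : ModSite.HasSheafHom (O := (CohB1.ProjSpace r k).sheaf) F :=
    ‹ModSite.HasSheafHom (O := (Proj (Pn.Gr r k)).sheaf) F›
  haveI : HasInjectiveResolutions (ModSite.Mod (CohB1.ProjSpace r k).sheaf) :=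
    ‹HasInjectiveResolutions (ModSite.Mod (Proj (Pn.Gr r k)).sheaf)›
  haveI : HasExt.{u} (CohB1.ProjSpace r k).Modules := ‹HasExt.{u} (Proj (Pn.Gr r k)).Modules›
  obtain ⟨d₀, hd₀⟩ := exists_ext_linearEquiv_sections (X := CohB1.ProjSpace r k) (A := k) (n := r)
    (𝟙 (CohB1.ProjSpace r k)) (Category.id_comp _) F ω hF hω j
  have key : ∀ m : ℕ, d₀ ≤ m →
      (Subsingleton (Coh.HH (Proj (Pn.Gr r k)) (CohB1.tensorMod F (Pn.Od r k (-(m : ℤ)))) i) ↔
        Subsingleton (Coh.HH (Proj (Pn.Gr r k)) ((T r k (m : ℤ)).obj S) 0)) := by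
    intro m hm
    let t : twX (𝟙 (CohB1.ProjSpace r k)) (m : ℤ) ≅ Pn.Od r k (m : ℤ) :=
      (Scheme.Modules.pullbackId (CohB1.ProjSpace r k)).app _
    have hflf : FlatMod.IsFinLocFree (twX (𝟙 (CohB1.ProjSpace r k)) (m : ℤ)) := isFinLocFree_twX _ _
    obtain ⟨ee⟩ := hd₀ m hm
    obtain ⟨es⟩ := nonempty_extSh_tensor F ω (twX (𝟙 (CohB1.ProjSpace r k)) (m : ℤ)) hflf j
    let es' : (ModSite.extSh (O := (Proj (Pn.Gr r k)).sheaf) F j).obj
        (CohB1.tensorMod ω (twX (𝟙 (CohB1.ProjSpace r k)) (m : ℤ))) ≅ (T r k (m : ℤ)).obj S :=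
      es ≪≫ PicGrp.tensorModIso (Iso.refl _) t ≪≫ swapIso S (m : ℤ)
    have h1 : Subsingleton (Coh.HH (Proj (Pn.Gr r k)) (CohB1.tensorMod F (Pn.Od r k (-(m : ℤ)))) i) ↔
        Subsingleton (Ext.{u} F (CohB1.tensorMod ω (twX (𝟙 (CohB1.ProjSpace r k)) (m : ℤ))) j) := by
      rw [van_swap_iff]
      obtain ⟨e⟩ := (PnExt.dualAt_projSpace k r ((T r k (-(m : ℤ))).obj F) (isCoh_T _ hF) j).1 (by omega)
      obtain ⟨e'⟩ := nonempty_ext_twist (r := r) (k := k) F (m : ℤ) (-((r : ℤ) + 1)) j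
      let e'' : (T r k (m : ℤ)).obj ω ≅ CohB1.tensorMod ω (twX (𝟙 (CohB1.ProjSpace r k)) (m : ℤ)) :=
        (swapIso ω (m : ℤ)).symm ≪≫ PicGrp.tensorModIso (Iso.refl _) t.symm
      rw [show i = r - j by omega, ← subsingleton_dual_iff (k := k), ← e.toEquiv.subsingleton_congr,
        e'.toEquiv.subsingleton_congr]
      exact ⟨subsingleton_ext_of_iso e'', subsingleton_ext_of_iso e''.symm⟩
    rw [h1, ee.toEquiv.subsingleton_congr]
    exact ⟨fun h => subsingleton_HH_of_iso es' 0 h, fun h => subsingleton_HH_of_iso es'.symm 0 h⟩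
  constructor
  · rintro ⟨m₀, hm₀⟩
    refine isZero_of_H0 S hS ⟨max d₀ m₀.toNat, fun m hm => ?_⟩
    exact (key m (le_of_max_le_left hm)).1 (hm₀ m (by omega))
  · intro hz
    refine ⟨(d₀ : ℤ), fun m hm => ?_⟩
    lift m to ℕ using (by omega) with m'
    refine (key m' (by omega)).2 ?_
    have hz' : IsZero ((T r k (m' : ℤ)).obj S) := (T r k (m' : ℤ)).map_isZero hz
    haveI : Subsingleton Γ((T r k (m' : ℤ)).obj S, ⊤) := ⟨fun a b => by
      have h := congrArg (fun f => f.app ⊤) (hz'.eq_of_src (𝟙 _) 0)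
      exact (ConcreteCategory.congr_hom h a).trans (ConcreteCategory.congr_hom h b).symm⟩
    exact (HH0Equiv _).toEquiv.subsingleton

end Groth.Agent.H17.EdgeIso
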