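import Groth.Agent.H17.EdgeIso.Scheme
import Groth.Agent.H10Inj.SheafExt.RelExt
import Groth.Agent.H10Inj.SheafExt.Sections
import Groth.Agent.H10Coh.SerreVanishing2
import Groth.Agent.H11Ample.AmpleOn
import Groth.Agent.H11Ample.Converse
import Groth.Agent.H10Coh.Proj.Coherent

/-!
# Ext into large twists is computed by the global sections of the twisted Ext sheaf
-/

set_option autoImplicit false
set_option linter.style.haveILetI false
set_option synthInstance.maxHeartbeats 800000
set_option maxHeartbeats 1600000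
set_option backward.isDefEq.respectTransparency false

universe u

open CategoryTheory CategoryTheory.Limits CategoryTheory.Abelian AlgebraicGeometry Opposite TopologicalSpace
open Groth.Agent.H10Inj.SheafExt

namespace Groth.Agent.H17.EdgeIso

variable {X : Scheme.{u}}

/-- The Ext sheaves commute with twisting the second variable by a finite locally free module. -/
theorem nonempty_extSh_tensor (F G N : X.Modules) (hN : FlatMod.IsFinLocFree N) (q : ℕ)
    [ModSite.HasSheafHom (O := X.sheaf) F] [HasInjectiveResolutions (ModSite.Mod X.sheaf)] :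
    Nonempty ((ModSite.extSh (O := X.sheaf) F q).obj (CohB1.tensorMod G N) ≅
      CohB1.tensorMod ((ModSite.extSh (O := X.sheaf) F q).obj G) N) := by
  haveI : HasInjectiveResolutions X.Modules := ‹HasInjectiveResolutions (ModSite.Mod X.sheaf)›
  haveI : IsGrothendieckAbelian.{u} X.Modules := H10Coh.isGrothendieckAbelian_sheafOfModules _
  haveI : EnoughInjectives X.Modules := inferInstance
  let H := homFunctor F
  haveI : PreservesFiniteColimits ((DCoh.tensorBi (X := X)).flip.obj N) :=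
    haveI := preservesFiniteColimits_homFunctor _ (isFinLocFree_dual hN)
    preservesFiniteColimits_of_natIso (tensorHomIso N hN).symm
  haveI : PreservesFiniteLimits ((DCoh.tensorBi (X := X)).flip.obj N) :=
    preservesFiniteLimits_of_natIso (tensorHomIso N hN).symm
  haveI : ((DCoh.tensorBi (X := X)).flip.obj N).Additive :=
    Functor.additive_of_iso (tensorHomIso N hN).symm
  obtain ⟨e⟩ := nonempty_rightDerived_homPrecomp H (isFinLocFree_dual hN) q
  exact ⟨extShIso F q _ ≪≫ (H.rightDerived q).mapIso ((tensorHomIso N hN).app G) ≪≫ (e.app G).symm ≪≫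
    (H02CA.ModLocalise.rdMapIso (Functor.isoWhiskerRight (tensorHomIso N hN).symm H ≪≫
      tensorHomCommIso F N hN) q).app G ≪≫
    (H02CA.RDPostcomp.postcompIso H ((DCoh.tensorBi (X := X)).flip.obj N) q).app G ≪≫
    ((DCoh.tensorBi (X := X)).flip.obj N).mapIso (extShIso F q G).symm⟩

variable {A : Type u} [CommRing A] [IsNoetherianRing A] {n : ℕ} (ι : X ⟶ CohB1.ProjSpace n A) [IsClosedImmersion ι]

/-- The twist pulled back to a closed subscheme. -/
noncomputable abbrev twX (d : ℤ) : X.Modules := (Scheme.Modules.pullback ι).obj (Twist.twistProjSpace n A d)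

omit [IsNoetherianRing A] [IsClosedImmersion ι] in
theorem isFinLocFree_twX (d : ℤ) : FlatMod.IsFinLocFree (twX ι d) := by
  refine H16Derived.KFlat.Stalk.isFinLocFree_pullback ι fun x => ?_
  obtain ⟨U, hxU, ⟨e⟩⟩ := H22Alg.RegSheaf.isInvertible_twistProjSpace n A d x
  exact ⟨U, 1, hxU, ⟨e ≪≫ (coproductUniqueIso fun _ : Fin 1 => Coh.structureModule (U : Scheme.{u})).symm⟩⟩

omit [IsNoetherianRing A] [IsClosedImmersion ι] in
theorem nonempty_tensorPow_twX (d : ℕ) : Nonempty (twX ι (d : ℤ) ≅ CohB1.tensorPow (twX ι 1) d) := by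
  obtain ⟨e₁⟩ := H11Tilde.nonempty_twist_iso_tensorPow (CohB1.polyGrading n A) (H22Alg.RegSheaf.cover n A) d
  obtain ⟨e₂⟩ := H11Ample.exists_iso_pullback_tensorPow ι (H22Alg.RegSheaf.isInvertible_twistProjSpace n A 1) d
  exact ⟨(Scheme.Modules.pullback ι).mapIso e₁ ≪≫ e₂⟩

/-- Large twists make the Ext sheaves acyclic. -/
theorem exists_bound [X.Over (Spec (CommRingCat.of A))]
    (hι : ι ≫ CohB1.ProjSpace.toSpec n A = X ↘ Spec (CommRingCat.of A)) (F G : X.Modules) (hF : Coh.IsCoh F)
    (hG : Coh.IsCoh G) [ModSite.HasSheafHom (O := X.sheaf) F] [HasInjectiveResolutions (ModSite.Mod X.sheaf)]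
    (q : ℕ) : ∃ d₀ : ℕ, ∀ d : ℕ, d₀ ≤ d → ∀ p, 0 < p →
      Subsingleton (Coh.HH X ((ModSite.extSh (O := X.sheaf) F q).obj (CohB1.tensorMod G (twX ι (d : ℤ)))) p) := by
  haveI : IsProper (X ↘ Spec (CommRingCat.of A)) := hι ▸ inferInstance
  haveI : IsNoetherianRing (CommRingCat.of A : Type u) := ‹IsNoetherianRing A›
  haveI : IsLocallyNoetherian X := LocallyOfFiniteType.isLocallyNoetherian (X ↘ Spec (CommRingCat.of A))
  haveI : CompactSpace X := QuasiCompact.compactSpace_of_compactSpace (X ↘ Spec (CommRingCat.of A))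
  haveI : IsNoetherian X := {}
  haveI : HasInjectiveResolutions X.Modules := ‹HasInjectiveResolutions (ModSite.Mod X.sheaf)›
  have hA : CohB1.IsAmple (twX ι 1) :=
    H11Ample.isAmple_pullback_of_isAffineHom ι (H11Ample.isAmple_twistProjSpace n A)
  have hE : Coh.IsCoh ((ModSite.extSh (O := X.sheaf) F q).obj G) :=
    H10Coh.isCoh_of_iso (extShIso F q G).symm (isCoh_rightDerived F hF q G hG)
  obtain ⟨k₀, hk⟩ := H10Coh.Tw.exists_vanishing_ample (X ↘ Spec (CommRingCat.of A)) hA _ hE
  refine ⟨k₀, fun d hd p hp => ?_⟩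
  obtain ⟨e⟩ := nonempty_extSh_tensor F G (twX ι (d : ℤ)) (isFinLocFree_twX ι d) q
  obtain ⟨e'⟩ := nonempty_tensorPow_twX ι d
  exact H10Coh.subsingleton_HH_of_iso (PicGrp.tensorModIso (Iso.refl _) e'.symm ≪≫ e.symm) p
    (@Equiv.subsingleton _ _ (H10Coh.HHEquiv _ p).toEquiv (hk d hd p hp))

/-- `Ext^i(F, G(d)) = H^0(Ext^i(F, G(d)))` for large `d`. -/
theorem exists_ext_linearEquiv_sections [X.Over (Spec (CommRingCat.of A))]
    (hι : ι ≫ CohB1.ProjSpace.toSpec n A = X ↘ Spec (CommRingCat.of A))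
    [HasExt.{u} X.Modules] (F G : X.Modules) (hF : Coh.IsCoh F) (hG : Coh.IsCoh G)
    [ModSite.HasSheafHom (O := X.sheaf) F] [HasInjectiveResolutions (ModSite.Mod X.sheaf)] (i : ℕ) :
    ∃ d₀ : ℕ, ∀ d : ℕ, d₀ ≤ d →
      Nonempty (Ext.{u} F (CohB1.tensorMod G (twX ι (d : ℤ))) i ≃ₗ[A]
        Coh.HH X ((ModSite.extSh (O := X.sheaf) F i).obj (CohB1.tensorMod G (twX ι (d : ℤ)))) 0) := by
  choose d₀ hd₀ using exists_bound ι hι F G hF hG
  refine ⟨(Finset.range (i + 1)).sup d₀, fun d hd => nonempty_ext_linearEquiv_sections A F _ i fun q hq p => ?_⟩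
  exact hd₀ q d ((Finset.le_sup (Finset.mem_range.2 (Nat.lt_succ_of_le hq))).trans hd) (p + 1) (Nat.succ_pos p)

end Groth.Agent.H17.EdgeIso
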